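/-
Fast evaluation of transpositions on the labels of the explicit `Fi23`: if `y₁, …, y_m` and the transposition of the label `p` generate the group
then an element `g` centralizing the `y_i` is determined by the label `g p`, and the label `g p` has to satisfy the relations which `p` satisfies.
Port to `Fi23` of `M22/Rows/Core`.
-/
import Mathlib
import Cfsg.Agent.Lib.Fischer.M23.ExplicitTab
import Cfsg.Agent.Lib.Fischer.M23.Rows.Data

set_option autoImplicit false
set_option maxRecDepth 100000

namespace Cfsg.Agent.Lib.Fischer.M23.Rows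

open Cfsg Cfsg.Agent.Lib.Compute.ToddCoxeterCore Cfsg.Agent.Lib.Compute.TCChain
open Cfsg.Agent.Lib.Compute.ToddCoxeterPresented hiding TT
open Cfsg.Agent.Lib.Compute.TCFast Cfsg.Agent.Lib.Compute.TC
open Cfsg.Agent.Lib.Fischer.M23.Explicit Cfsg.Agent.Lib.Fischer.M23.ExplicitData

/-! ### Tables -/

/-- The extra tables. -/
def xT (i : ℕ) : ℕ := [zT, X11, X12, X13, X14, X15].getD i 0

/-- The mask of a page of `256` entries of `15` bits. -/
def M3840 : ℕ := 0xffffffffffffffffffffffffffffffffffffffffffffffffffffffffffffffffffffffffffffffffffffffffffffffffffffffffffffffffffffffffffffffffffffffffffffffffffffffffffffffffffffffffffffffffffffffffffffffffffffffffffffffffffffffffffffffffffffffffffffffffffffffffffffffffffffffffffffffffffffffffffffffffffffffffffffffffffffffffffffffffffffffffffffffffffffffffffffffffffffffffffffffffffffffffffffffffffffffffffffffffffffffffffffffffffffffffffffffffffffffffffffffffffffffffffffffffffffffffffffffffffffffffffffffffffffffffffffffffffffffffffffffffffffffffffffffffffffffffffffffffffffffffffffffffffffffffffffffffffffffffffffffffffffffffffffffffffffffffffffffffffffffffffffffffffffffffffffffffffffffffffffffffffffffffffffffffffffffffffffffffffffffffffffffffffffffffffffffffffffffffffffffffffffffffffffffffffffffffffffffffffffffffffffffffffffffffffffffffffffffffffffffffffffffffffffffffffffffffffffffffffffffffffffffffffffffffffffffffffffffffffffffffffffffffffffffffffffffffffffffff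

/-- Reading a table by pages: the big intermediate numbers are the pages, which the kernel sees only once each. -/
noncomputable def rdP (T q : ℕ) : ℕ :=
  frc (Nat.shiftRight q (nat_lit 8)) fun a =>
    Nat.land (Nat.shiftRight (Nat.land (Nat.shiftRight T (Nat.mul (nat_lit 3840) a)) M3840)
      (Nat.mul (nat_lit 15) (Nat.land q (nat_lit 255)))) (nat_lit 32767)

theorem M3840_eq : M3840 = 2 ^ 3840 - 1 := by decide +kernel

theorem rdP_eq (T q : ℕ) : rdP T q = rd T q := by
  unfold rdP rd
  rw [frc_eq]
  show (((T >>> (3840 * (q >>> 8))) &&& M3840) >>> (15 * (q &&& 255))) &&& 32767 = (T >>> (15 * q)) &&& 32767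
  have hq : q = 256 * (q >>> 8) + (q &&& 255) := by
    rw [Nat.shiftRight_eq_div_pow, show (255 : ℕ) = 2 ^ 8 - 1 from rfl, Nat.and_two_pow_sub_one_eq_mod]
    omega
  have hb : q &&& 255 < 256 := Nat.and_lt_two_pow (n := 8) q (by norm_num)
  set a := q >>> 8 with ha
  set b := q &&& 255 with hb'
  apply Nat.eq_of_testBit_eq
  intro i
  simp only [Nat.testBit_and, Nat.testBit_shiftRight]
  by_cases hi : i < 15
  · have h1 : (32767 : ℕ).testBit i = true := by
      have : (32767 : ℕ) = 2 ^ 15 - 1 := rfl
      rw [this, Nat.testBit_two_pow_sub_one]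
      simpa using hi
    have h2 : M3840.testBit (15 * b + i) = true := by
      rw [M3840_eq, Nat.testBit_two_pow_sub_one]
      have : 15 * b + i < 3840 := by omega
      simpa using this
    have h3 : 3840 * a + (15 * b + i) = 15 * q + i := by
      rw [hq]; ring
    rw [h1, h2, h3]
    simp
  · have h1 : (32767 : ℕ).testBit i = false := by
      have : (32767 : ℕ) = 2 ^ 15 - 1 := rfl
      rw [this, Nat.testBit_two_pow_sub_one]
      simpa using hi
    rw [h1]
    simp

/-- Reading the tables. -/
noncomputable def rdT (k i : ℕ) : ℕ :=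
  Bool.rec (motive := fun _ => ℕ) (rdP (xT (Nat.sub k (nat_lit 10))) i) (rdP (lT k) i) (Nat.blt k (nat_lit 10))

/-- A word of atoms on a label: the first letter is applied first. -/
noncomputable def run (f : ℕ → ℕ → ℕ) (w : List ℕ) : ℕ → ℕ :=
  List.rec (motive := fun _ => ℕ → ℕ) (fun i => i) (fun x _ ih i => frc (f x i) ih) w

@[simp] theorem run_nil (f : ℕ → ℕ → ℕ) (i : ℕ) : run f [] i = i := rfl

@[simp] theorem run_cons (f : ℕ → ℕ → ℕ) (x : ℕ) (u : List ℕ) (i : ℕ) : run f (x :: u) i = run f u (f x i) := by
  show frc (f x i) (run f u) = _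
  simp

theorem run_spec {env : ℕ → G1} {f : ℕ → ℕ → ℕ} {w : List ℕ}
    (h : ∀ x ∈ w, ∀ i : Fin NN, ((φ (env x) i : Fin NN) : ℕ) = f x i) (i : Fin NN) :
    ((φ (wordEl env w) i : Fin NN) : ℕ) = run f w i := by
  induction w generalizing i with
  | nil => simp
  | cons x u ih =>
    rw [run_cons, ← h x (by simp) i, wordEl_cons, map_mul, Equiv.Perm.coe_mul, Function.comp_apply]
    exact ih (fun y hy => h y (by simp [hy])) _

theorem wordEl_reverse {env : ℕ → G1} {w : List ℕ} (h : ∀ x ∈ w, env x * env x = 1) :
    wordEl env w.reverse = (wordEl env w)⁻¹ := by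
  induction w with
  | nil => simp
  | cons x u ih =>
    have hx : (env x)⁻¹ = env x := inv_eq_of_mul_eq_one_left (h x (by simp))
    rw [List.reverse_cons, wordEl_append, ih (fun y hy => h y (by simp [hy]))]
    simp [hx]

/-- The transposition of a natural number. -/
noncomputable def tn (q : ℕ) : G1 := if h : q < NN then t ⟨q, h⟩ else 1

theorem tn_val (q : Fin NN) : tn q = t q := by
  unfold tn
  rw [dif_pos q.2]

theorem tn_sq (q : ℕ) : tn q * tn q = 1 := by
  unfold tn
  split_ifs
  · exact t_sq _
  · simp

/-- The labels of the atoms. -/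
def lab (k : ℕ) : ℕ := labL.getD k 0

/-- The atoms. -/
noncomputable def T (k : ℕ) : G1 := tn (lab k)

theorem T_sq (k : ℕ) : T k * T k = 1 := tn_sq _

theorem T_inv (k : ℕ) : (T k)⁻¹ = T k := inv_eq_of_mul_eq_one_left (T_sq k)

/-- Words to the labels of the letters. -/
def lw (k : ℕ) : List ℕ := Bool.rec (motive := fun _ => List ℕ) (yw k) w7 (Nat.beq k 7)

theorem lw_check : ∀ k ∈ List.range 10, eqOn ev (cj (wa (lw k))) (.lt k) base = true ∧
    (wa (lw k)).ev ev true 0 = lab k := by
  decide +kernel

theorem lab_lt : ∀ k, k < 16 → lab k < NN := by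
  have h : ∀ k ∈ List.range 16, Nat.ble (Nat.succ (lab k)) (nat_lit 31671) = true := by decide +kernel
  intro k hk
  exact Nat.le_of_ble_eq_true (h k (List.mem_range.2 hk))

/-- The atoms below ten are the letters. -/
theorem T_letter {k : ℕ} (hk : k < 10) : T k = L k := by
  obtain ⟨h1, h2⟩ := lw_check k (List.mem_range.2 hk)
  have h3 : φ ((wa (lw k)).el L) pt0 = ⟨lab k, lab_lt k (by omega)⟩ := by
    apply Fin.ext
    rw [pe_val]
    exact h2
  have h4 : T k = t ⟨lab k, lab_lt k (by omega)⟩ := by
    unfold T
    exact tn_val ⟨lab k, lab_lt k (by omega)⟩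
  rw [h4, ← h3, t_eq]
  exact pe_eq _ _ h1

theorem T_val_letter {k : ℕ} (hk : k < 10) (i : Fin NN) : ((φ (T k) i : Fin NN) : ℕ) = rdT k i := by
  rw [T_letter hk, φ_L_fast]
  have e1 : Nat.blt k 10 = true := Nat.ble_eq_true_of_le hk
  unfold evF rdT
  rw [e1]
  exact (rdP_eq _ _).symm

theorem lab_ten : lab 10 = 0 := by decide +kernel

theorem T_ten : T 10 = z1 := by
  unfold T
  rw [lab_ten]
  have h : tn 0 = t pt0 := tn_val pt0
  rw [h, t_pt0]

theorem T_val_ten (i : Fin NN) : ((φ (T 10) i : Fin NN) : ℕ) = rdT 10 i := by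
  rw [T_ten, φ_z_fast]
  show _ = rdP zT i
  rw [rdP_eq]

/-- The word of an atom above ten. -/
def wd (k : ℕ) : List ℕ := wdL.getD k []

theorem rd_extra_words : ∀ k ∈ [11, 12, 13, 14, 15], (wd k).all (fun x => Nat.blt x k) = true ∧ run rdT (wd k) 0 = lab k := by
  decide +kernel

/-- The check of an extra table at a label. -/
noncomputable def chkX (k i : ℕ) : Bool :=
  Nat.beq (rdT k i) (run rdT (wd k) (rdT (nat_lit 10) (run rdT (wd k).reverse i)))

theorem x11a : allFrom (chkX (nat_lit 11)) (nat_lit 16000) (nat_lit 0) = true := by decide +kernel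
theorem x11b : allFrom (chkX (nat_lit 11)) (nat_lit 15671) (nat_lit 16000) = true := by decide +kernel
theorem x12a : allFrom (chkX (nat_lit 12)) (nat_lit 16000) (nat_lit 0) = true := by decide +kernel
theorem x12b : allFrom (chkX (nat_lit 12)) (nat_lit 15671) (nat_lit 16000) = true := by decide +kernel
theorem x13 : allFrom (chkX (nat_lit 13)) (nat_lit 31671) (nat_lit 0) = true := by decide +kernel
theorem x14 : allFrom (chkX (nat_lit 14)) (nat_lit 31671) (nat_lit 0) = true := by decide +kernel
theorem x15 : allFrom (chkX (nat_lit 15)) (nat_lit 31671) (nat_lit 0) = true := by decide +kernel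

theorem rd_extra : ∀ k ∈ [11, 12, 13, 14, 15], ∀ i, i < 31671 → chkX k i = true := by
  intro k hk i hi
  simp only [List.mem_cons, List.not_mem_nil, or_false] at hk
  rcases hk with rfl | rfl | rfl | rfl | rfl
  · exact allFrom_add x11a x11b i (Nat.zero_le _) hi
  · exact allFrom_add x12a x12b i (Nat.zero_le _) hi
  · exact allFrom_spec x13 i (Nat.zero_le _) (by omega)
  · exact allFrom_spec x14 i (Nat.zero_le _) (by omega)
  · exact allFrom_spec x15 i (Nat.zero_le _) (by omega)

theorem T_val {k : ℕ} (hk : k < 16) (i : Fin NN) : ((φ (T k) i : Fin NN) : ℕ) = rdT k i := by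
  induction k using Nat.strong_induction_on generalizing i with
  | _ k ih =>
    by_cases h9 : k < 10
    · exact T_val_letter h9 i
    by_cases h10 : k = 10
    · subst h10
      exact T_val_ten i
    have hkm : k ∈ [11, 12, 13, 14, 15] := by
      have : k = 11 ∨ k = 12 ∨ k = 13 ∨ k = 14 ∨ k = 15 := by omega
      rcases this with rfl | rfl | rfl | rfl | rfl <;> decide
    obtain ⟨h1, h2⟩ := rd_extra_words k hkm
    have h3 := rd_extra k hkm
    have hall : ∀ x ∈ wd k, x < k := by
      intro x hx
      have := List.all_eq_true.1 h1 x hx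
      exact blt_iff.1 this
    have hrun : ∀ x ∈ wd k, ∀ j : Fin NN, ((φ (T x) j : Fin NN) : ℕ) = rdT x j := fun x hx j =>
      ih x (hall x hx) (by have := hall x hx; omega) j
    have hrun' : ∀ x ∈ (wd k).reverse, ∀ j : Fin NN, ((φ (T x) j : Fin NN) : ℕ) = rdT x j := fun x hx j =>
      hrun x (List.mem_reverse.1 hx) j
    set W := wordEl T (wd k) with hW
    have h4 : φ W pt0 = ⟨lab k, lab_lt k hk⟩ := by
      apply Fin.ext
      rw [run_spec hrun]
      exact h2
    have h5 : T k = W * z1 * W⁻¹ := by
      have : T k = t ⟨lab k, lab_lt k hk⟩ := tn_val ⟨lab k, lab_lt k hk⟩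
      rw [this, ← h4, t_eq]
    have h6 : W⁻¹ = wordEl T (wd k).reverse := (wordEl_reverse (fun x _ => T_sq x)).symm
    have hi : (i : ℕ) < 31671 := i.2
    have h7 := beq_iff.1 (h3 i hi)
    rw [h7, h5, h6, map_mul, map_mul, Equiv.Perm.coe_mul, Equiv.Perm.coe_mul, Function.comp_apply,
      Function.comp_apply, run_spec hrun, ← run_spec hrun' i]
    rw [← T_ten]
    exact congrArg (run rdT (wd k)) (ih 10 (by omega) (by omega) _)

theorem rdT_lt {k : ℕ} (hk : k < 16) {i : ℕ} (hi : i < NN) : rdT k i < NN := by
  rw [← T_val hk ⟨i, hi⟩]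
  exact Fin.isLt _

/-! ### The transposition of a label on labels -/

/-- The mask of a page of `256` entries of `28` bits. -/
def M7168 : ℕ := 0xffffffffffffffffffffffffffffffffffffffffffffffffffffffffffffffffffffffffffffffffffffffffffffffffffffffffffffffffffffffffffffffffffffffffffffffffffffffffffffffffffffffffffffffffffffffffffffffffffffffffffffffffffffffffffffffffffffffffffffffffffffffffffffffffffffffffffffffffffffffffffffffffffffffffffffffffffffffffffffffffffffffffffffffffffffffffffffffffffffffffffffffffffffffffffffffffffffffffffffffffffffffffffffffffffffffffffffffffffffffffffffffffffffffffffffffffffffffffffffffffffffffffffffffffffffffffffffffffffffffffffffffffffffffffffffffffffffffffffffffffffffffffffffffffffffffffffffffffffffffffffffffffffffffffffffffffffffffffffffffffffffffffffffffffffffffffffffffffffffffffffffffffffffffffffffffffffffffffffffffffffffffffffffffffffffffffffffffffffffffffffffffffffffffffffffffffffffffffffffffffffffffffffffffffffffffffffffffffffffffffffffffffffffffffffffffffffffffffffffffffffffffffffffffffff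ffffffffffffffffffffffffffffffffffffffffffffffffffffffffffffffffffffffffffffffffffffffffffffffffffffffffffffffffffffffffffffffffffffffffffffffffffffffffffffffffffffffffffffffffffffffffffffffffffffffffffffffffffffffffffffffffffffffffffffffffffffffffffffffffffffffffffffffffffffffffffffffffffffffffffffffffffffffffffffffffffffffffffffffffffffffffffffffffffffffffffffffffffffffffffffffffffffffffffffffffffffffffffffffffffffffffffffffffffffffffffffffffffffffffffffffffffffffffffffffffffffffffffffffffffffffffffffffffffffffffffffffffffffffffffffffffffffffffffffffffffffffffffffffffffffffffffffffffffffffffffffffffffffffffffffffffffffffffffffffffffffffffffffffffffffffffffffffffffffffffffffffffffffffffffffffffffffffffffffffffffffffffffffffffffffffffffffffffffffffffffffffffffffffffffffffffffffffffffffffffffffffffffffffffffffffffffffffffffffffffffffffffffffffffffffffffffffffffffffffffffffffffffffff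

/-- The code of a label. -/
noncomputable def cdR (q : ℕ) : ℕ :=
  frc (Nat.shiftRight q (nat_lit 8)) fun a =>
    Nat.land (Nat.shiftRight (Nat.land (Nat.shiftRight CD (Nat.mul (nat_lit 7168) a)) M7168)
      (Nat.mul (nat_lit 28) (Nat.land q (nat_lit 255)))) (nat_lit 268435455)

/-- The transposition of the code `c` on the label `r`. -/
noncomputable def tvF (n : ℕ) : ℕ → ℕ → ℕ :=
  Nat.rec (motive := fun _ => ℕ → ℕ → ℕ) (fun _ r => rdT (nat_lit 10) r)
    (fun _ ih c r =>
      Bool.rec (motive := fun _ => ℕ)
        (frc (Nat.land c (nat_lit 15)) fun d =>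
          frc (rdT d r) fun r' =>
            frc (ih (Nat.shiftRight c (nat_lit 4)) r') (rdT d))
        (rdT (nat_lit 10) r) (Nat.beq c (nat_lit 1))) n

/-- The label of a code. -/
noncomputable def lbF (n : ℕ) : ℕ → ℕ :=
  Nat.rec (motive := fun _ => ℕ → ℕ) (fun _ => nat_lit 0)
    (fun _ ih c =>
      Bool.rec (motive := fun _ => ℕ)
        (frc (Nat.land c (nat_lit 15)) fun d =>
          frc (ih (Nat.shiftRight c (nat_lit 4))) (rdT d))
        (nat_lit 0) (Nat.beq c (nat_lit 1))) n

theorem land15_lt (c : ℕ) : Nat.land c 15 < 16 := by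
  have : c &&& 15 < 16 := Nat.and_lt_two_pow (n := 4) c (by norm_num)
  exact this

theorem lbF_lt (n c : ℕ) : lbF n c < NN := by
  induction n generalizing c with
  | zero => show 0 < 31671; norm_num
  | succ n ih =>
    show (Bool.rec (motive := fun _ => ℕ)
        (frc (Nat.land c (nat_lit 15)) fun d =>
          frc (lbF n (Nat.shiftRight c (nat_lit 4))) (rdT d))
        (nat_lit 0) (Nat.beq c (nat_lit 1))) < NN
    cases Nat.beq c (nat_lit 1) with
    | true => show 0 < 31671; norm_num
    | false =>
      simp only [frc_eq]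
      exact rdT_lt (land15_lt c) (ih _)

theorem tvF_spec (n c : ℕ) (r : Fin NN) : ((φ (tn (lbF n c)) r : Fin NN) : ℕ) = tvF n c r := by
  induction n generalizing c r with
  | zero =>
    have h : lbF 0 c = lab 10 := lab_ten.symm
    rw [h]
    exact T_val (k := 10) (by omega) r
  | succ n ih =>
    show ((φ (tn (Bool.rec (motive := fun _ => ℕ)
        (frc (Nat.land c (nat_lit 15)) fun d =>
          frc (lbF n (Nat.shiftRight c (nat_lit 4))) (rdT d))
        (nat_lit 0) (Nat.beq c (nat_lit 1)))) r : Fin NN) : ℕ) = Bool.rec (motive := fun _ => ℕ)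
        (frc (Nat.land c (nat_lit 15)) fun d =>
          frc (rdT d r) fun r' =>
            frc (tvF n (Nat.shiftRight c (nat_lit 4)) r') (rdT d))
        (rdT (nat_lit 10) r) (Nat.beq c (nat_lit 1))
    cases Nat.beq c (nat_lit 1) with
    | true =>
      have h : (0 : ℕ) = lab 10 := lab_ten.symm
      show ((φ (tn 0) r : Fin NN) : ℕ) = rdT 10 r
      rw [h]
      exact T_val (k := 10) (by omega) r
    | false =>
      simp only [frc_eq]
      set d := Nat.land c (nat_lit 15) with hd
      have hd16 : d < 16 := land15_lt c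
      set c' := Nat.shiftRight c (nat_lit 4) with hc'
      have hl := lbF_lt n c'
      set l : Fin NN := ⟨lbF n c', hl⟩ with hldef
      have h1 : rdT d (lbF n c') = ((φ (T d) l : Fin NN) : ℕ) := (T_val hd16 l).symm
      have h2 : tn ((φ (T d) l : Fin NN) : ℕ) = T d * t l * (T d)⁻¹ := by
        rw [tn_val, t_conj]
      rw [h1, h2, T_inv, map_mul, map_mul, Equiv.Perm.coe_mul, Equiv.Perm.coe_mul, Function.comp_apply,
        Function.comp_apply]
      have h3 : rdT d r = ((φ (T d) r : Fin NN) : ℕ) := (T_val hd16 r).symm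
      have h4 : tvF n c' ((φ (T d) r : Fin NN) : ℕ) = ((φ (t l) (φ (T d) r) : Fin NN) : ℕ) := by
        rw [← ih c' (φ (T d) r)]
        have : tn (lbF n c') = t l := tn_val l
        rw [this]
      rw [h3, h4]
      exact T_val hd16 _

theorem cd_ok : allFrom (fun q => Nat.beq (lbF (nat_lit 7) (cdR q)) q) (nat_lit 31671) (nat_lit 0) = true := by
  decide +kernel

/-- The transposition of a label on labels. -/
noncomputable def tv (q r : ℕ) : ℕ := tvF (nat_lit 7) (cdR q) r

theorem tv_spec (q r : Fin NN) : ((φ (t q) r : Fin NN) : ℕ) = tv q r := by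
  have hq : (q : ℕ) < 31671 := q.2
  have h := beq_iff.1 (allFrom_spec cd_ok q (Nat.zero_le _) (by omega))
  have h1 := tvF_spec 7 (cdR q) r
  rw [h, tn_val] at h1
  exact h1

end Cfsg.Agent.Lib.Fischer.M23.Rows
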