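/-
Calculus of words of atoms in the explicit model.
-/
import Mathlib
import Cfsg.Agent.Lib.Fischer.M23.Rows.Bound

set_option autoImplicit false
set_option maxRecDepth 100000

namespace Cfsg.Agent.Lib.Fischer.M23.Rows

open Cfsg.Agent.Lib.Compute.ToddCoxeterCore Cfsg.Agent.Lib.Compute.TCChain
open Cfsg.Agent.Lib.Fischer.M23.Explicit

/-- The element of a word of atoms. -/
noncomputable abbrev wE (w : List ℕ) : G1 := wordEl aG w

/-- The atoms of a word are in range. -/
def wOK (w : List ℕ) : Bool := w.all (fun a => blt a (nat_lit 31687))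

theorem wE_val {w : List ℕ} (hw : wOK w = true) (i : Fin NN) : ((φ (wE w) i : Fin NN) : ℕ) = run aV w i :=
  run_spec (fun x hx j => aV_spec (blt_iff.1 (List.all_eq_true.1 hw x hx)) j) i

theorem wE_append (u v : List ℕ) : wE (u ++ v) = wE v * wE u := wordEl_append _ _ _

theorem wE_rev (w : List ℕ) : wE w.reverse = (wE w)⁻¹ := wordEl_reverse (fun x _ => aG_sq x)

/-- The power of a word. -/
def wPow (w : List ℕ) : ℕ → List ℕ
  | 0 => []
  | n + 1 => w ++ wPow w n

theorem wE_pow (w : List ℕ) (n : ℕ) : wE (wPow w n) = wE w ^ n := by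
  induction n with
  | zero => show wE [] = _; simp
  | succ n ih =>
    show wE (w ++ wPow w n) = _
    rw [wE_append, ih, pow_succ]

/-- The product `u * v * u⁻¹` as a word. -/
def wConj (u v : List ℕ) : List ℕ := u.reverse ++ v ++ u

theorem wE_conj (u v : List ℕ) : wE (wConj u v) = wE u * wE v * (wE u)⁻¹ := by
  unfold wConj
  rw [wE_append, wE_append, wE_rev, mul_assoc]

/-- Equality on the base points. -/
noncomputable def wEq (u v : List ℕ) : Bool :=
  Bool.rec (motive := fun _ => Bool) false
    (Bool.rec (motive := fun _ => Bool) false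
      (base.all (fun b => Nat.beq (run aV u b) (run aV v b))) (wOK v)) (wOK u)

theorem wE_eq {u v : List ℕ} (h : wEq u v = true) : wE u = wE v := by
  unfold wEq at h
  cases hu : wOK u with
  | false => rw [hu] at h; cases h
  | true =>
  rw [hu] at h
  simp only [] at h
  cases hv : wOK v with
  | false => rw [hv] at h; cases h
  | true =>
  rw [hv] at h
  simp only [] at h
  apply base_ext'
  intro b hb
  apply Fin.ext
  rw [wE_val hu, wE_val hv]
  exact beq_iff.1 (List.all_eq_true.1 h b hb)

/-- Two words differ at a point. -/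
noncomputable def wNe (u v : List ℕ) (i : ℕ) : Bool :=
  Bool.rec (motive := fun _ => Bool) false
    (Bool.rec (motive := fun _ => Bool) false
      (Bool.rec (motive := fun _ => Bool) false
        (Bool.rec (motive := fun _ => Bool) true false (Nat.beq (run aV u i) (run aV v i))) (blt i (nat_lit 31671))) (wOK v)) (wOK u)

theorem wE_ne {u v : List ℕ} {i : ℕ} (h : wNe u v i = true) : wE u ≠ wE v := by
  unfold wNe at h
  cases hu : wOK u with
  | false => rw [hu] at h; cases h
  | true =>
  rw [hu] at h
  simp only [] at h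
  cases hv : wOK v with
  | false => rw [hv] at h; cases h
  | true =>
  rw [hv] at h
  simp only [] at h
  cases hi : blt i (nat_lit 31671) with
  | false => rw [hi] at h; cases h
  | true =>
  rw [hi] at h
  simp only [] at h
  intro k
  have hi' : i < NN := blt_iff.1 hi
  have h1 := wE_val hu ⟨i, hi'⟩
  have h2 := wE_val hv ⟨i, hi'⟩
  rw [k] at h1
  have h3 : run aV u i = run aV v i := by
    rw [← h1, h2]
  rw [h3, Nat.beq_refl] at h
  cases h

/-- An involution-free check of the order of a word: `w ^ n = 1` and a non-trivial value of all `w ^ (n / q)`. -/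
theorem wE_ne_one {u : List ℕ} {i : ℕ} (h : wNe u [] i = true) : wE u ≠ 1 := wE_ne h

/-- Transport of the transposition of a label by a word. -/
theorem wE_t {w : List ℕ} (hw : wOK w = true) {p q : Fin NN} (h : run aV w p = q) :
    wE w * t p * (wE w)⁻¹ = t q := by
  rw [t_conj]
  congr 1
  apply Fin.ext
  rw [wE_val hw, h]

end Cfsg.Agent.Lib.Fischer.M23.Rows
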