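/-
Data for the Sylow 2-subgroup of the explicit `Fi23`: the basic set of 23 transpositions, a power-conjugate presentation of a Sylow subgroup.
Generated by /tmp/w/f23/sy2e.py (helper49).
-/
import Mathlib

set_option autoImplicit false

namespace Cfsg.Agent.Lib.Fischer.M23.Rows.Syl2

/-- The labels of the basic set. -/
def OmL : List ℕ := [2845, 25108, 8898, 20143, 21631, 21191, 21603, 29261, 21479, 9732, 13113, 30833, 19318, 24845, 28007, 16643, 855, 21017, 14505, 28432, 3875, 9527, 16475]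

/-- The words of the polycyclic generators. -/
def xWL : List (List ℕ) := [[2861], [25124], [8914], [20159], [21647], [21207], [21619], [29277], [21495], [9748], [13129], [5, 1256, 510, 6540, 637, 889, 7125, 7123, 5770, 13815, 6656, 19049, 8514, 2114], [5, 8, 1000, 9, 5279, 2917, 9786, 4129, 18606, 15827, 10943, 19435, 25484, 512], [1, 1009, 636, 889, 2160, 3155, 16415, 719, 4544, 3567, 17849, 15425], [1, 1256, 1378, 445, 4, 3857, 3172, 3176, 9004, 15008, 827, 8514, 25840, 18064], [5, 7837, 10756, 6156, 22234, 14277, 21300, 6299, 17849, 30029, 23468, 1684, 23478, 6569, 1457, 6645, 637, 510, 1256, 4154, 2, 6543, 636, 4532, 3857, 5250, 18606, 10970, 13085, 7615, 24861, 29796], [5, 2, 6543, 1000, 889, 1140, 4152, 4322, 1787, 7132, 19049, 30167, 24305], [510, 9, 1906, 3531, 12788, 10970, 17849, 27002, 22016]]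

/-- The action of the polycyclic generators on the basic set. -/
def sAll : List (List ℕ) := [[0, 1, 2, 3, 4, 5, 6, 7, 8, 9, 10, 11, 12, 13, 14, 15, 16, 17, 18, 19, 20, 21, 22], [0, 1, 2, 3, 4, 5, 6, 7, 8, 9, 10, 11, 12, 13, 14, 15, 16, 17, 18, 19, 20, 21, 22], [0, 1, 2, 3, 4, 5, 6, 7, 8, 9, 10, 11, 12, 13, 14, 15, 16, 17, 18, 19, 20, 21, 22], [0, 1, 2, 3, 4, 5, 6, 7, 8, 9, 10, 11, 12, 13, 14, 15, 16, 17, 18, 19, 20, 21, 22], [0, 1, 2, 3, 4, 5, 6, 7, 8, 9, 10, 11, 12, 13, 14, 15, 16, 17, 18, 19, 20, 21, 22], [0, 1, 2, 3, 4, 5, 6, 7, 8, 9, 10, 11, 12, 13, 14, 15, 16, 17, 18, 19, 20, 21, 22], [0, 1, 2, 3, 4, 5, 6, 7, 8, 9, 10, 11, 12, 13, 14, 15, 16, 17, 18, 19, 20, 21, 22], [0, 1, 2, 3, 4, 5, 6, 7, 8, 9, 10, 11, 12, 13, 14, 15, 16, 17, 18, 19, 20, 21, 22], [0, 1, 2, 3, 4, 5, 6, 7, 8, 9, 10, 11, 12, 13, 14, 15, 16, 17, 18, 19, 20, 21, 22], [0,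 1, 2, 3, 4, 5, 6, 7, 8, 9, 10, 11, 12, 13, 14, 15, 16, 17, 18, 19, 20, 21, 22], [0, 1, 2, 3, 4, 5, 6, 7, 8, 9, 10, 11, 12, 13, 14, 15, 16, 17, 18, 19, 20, 21, 22], [4, 2, 1, 22, 0, 5, 20, 17, 11, 9, 15, 8, 14, 13, 12, 10, 16, 7, 18, 19, 6, 21, 3], [15, 8, 11, 20, 10, 13, 3, 12, 2, 9, 0, 1, 17, 5, 7, 4, 19, 14, 18, 16, 22, 21, 6], [17, 1, 2, 3, 7, 13, 20, 4, 11, 9, 14, 8, 15, 5, 10, 12, 19, 0, 18, 16, 6, 21, 22], [7, 11, 8, 20, 17, 13, 3, 4, 1, 9, 14, 2, 10, 5, 15, 12, 16, 0, 21, 19, 22, 18, 6], [0, 8, 11, 22, 4, 5, 20, 15, 1, 9, 17, 2, 12, 13, 14, 7, 21, 10, 19, 18, 6, 16, 3], [17, 2, 1, 16, 10, 5, 21, 4, 11, 9, 14, 8, 15, 13, 7, 0, 22, 12, 6, 3, 18, 20, 19], [16, 2, 1, 17, 18, 5, 7, 22, 11, 9, 3, 8, 19, 13, 21, 6, 4, 20, 0, 14, 10, 12, 15]]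

/-- The squares. -/
def sqT : List (List ℕ) := [[], [], [], [], [], [], [], [], [], [], [], [0, 3, 4, 5, 6, 7, 10], [5, 6, 8, 9, 11], [2, 5, 7, 8, 10], [3, 4, 5, 8, 9, 10, 11], [2, 5, 7, 8, 9, 10], [2, 3, 5, 6, 8, 10, 12, 14], [0, 5, 6, 8, 11, 13, 14, 15]]

/-- The conjugates. -/
def cjT : List (List (List ℕ)) := [[], [[0]], [[0], [1]], [[0], [1], [2]], [[0], [1], [2], [3]], [[0], [1], [2], [3], [4]], [[0], [1], [2], [3], [4], [5]], [[0], [1], [2], [3], [4], [5], [6]], [[0], [1], [2], [3], [4], [5], [6], [7]], [[0], [1], [2], [3], [4], [5], [6], [7], [8]], [[0], [1], [2], [3], [4], [5], [6], [7], [8], [9]], [[4], [2], [1], [2, 3, 5, 7, 8, 9, 10], [0], [5], [0, 2, 3, 4, 8, 9], [0, 1, 4, 5, 8, 9, 10], [0, 1, 2, 3, 4, 5, 6, 7, 8, 10], [9], [1, 3, 6, 8, 9, 10]], [[1, 3, 6, 8, 9, 10], [8], [0, 1, 2, 3, 4, 5, 6, 7, 8, 10], [0, 2, 3, 4, 8, 9], [10],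 [0, 3, 4, 6, 7, 9, 10], [3], [1, 2, 3, 4, 5, 6, 9], [2], [9], [0], [0, 2, 4, 5, 7, 8, 9, 10, 11]], [[0, 1, 4, 5, 8, 9, 10], [1], [2], [3], [7], [0, 3, 4, 6, 7, 9, 10], [0, 2, 3, 4, 8, 9], [4], [0, 1, 2, 3, 4, 5, 6, 7, 8, 10], [9], [1, 2, 4, 7, 9, 10], [1, 2, 11], [1, 2, 5, 6, 7, 8, 10, 11, 12]], [[7], [0, 1, 2, 3, 4, 5, 6, 7, 8, 10], [8], [0, 2, 3, 4, 8, 9], [0, 1, 4, 5, 8, 9, 10], [0, 3, 4, 6, 7, 9, 10], [3], [4], [1], [9], [1, 2, 4, 7, 9, 10], [0, 1, 3, 4, 6, 8, 11], [3, 4, 6, 7, 12], [2, 3, 4, 5, 9, 10, 11, 13]], [[0], [8], [0, 1, 2, 3, 4, 5, 6, 7, 8, 10], [2, 3, 5, 7, 8, 9, 10], [4], [5], [0, 2, 3, 4, 8, 9], [1, 3, 6, 8, 9, 10], [1], [9], [0, 1, 4, 5, 8, 9, 10], [5, 9, 11], [0, 2, 4, 9, 10, 14], [0, 1, 3, 4, 6, 10, 12, 13, 14], [2, 5, 10, 12]], [[0, 1, 4, 5, 8, 9, 10], [2], [1], [0, 1, 3, 5, 7, 9], [10], [5], [0, 1, 2, 6, 7, 8, 9], [4],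 [0, 1, 2, 3, 4, 5, 6, 7, 8, 10], [9], [1, 2, 4, 7, 9, 10], [0, 2, 3, 4, 5, 6, 7, 8, 11, 12, 14], [0, 1, 2, 5, 8, 10, 13, 15], [1, 3, 4, 9, 11, 12, 13, 14], [2, 3, 7, 11, 13, 15], [0, 1, 2, 3, 11, 13, 14]], [[0, 1, 3, 5, 7, 9], [2], [1], [0, 1, 4, 5, 8, 9, 10], [0, 2, 5, 6, 9, 10], [5], [7], [2, 3, 5, 7, 8, 9, 10], [0, 1, 2, 3, 4, 5, 6, 7, 8, 10], [9], [3], [0, 3, 5, 6, 10, 13, 14, 15], [0, 3, 8, 11, 13, 15, 16], [0, 2, 10, 14, 15, 16], [0, 8, 10, 11, 14, 16], [1, 3, 5, 7, 9, 10, 11, 12, 13], [1, 2, 3, 5, 6, 7, 9, 11, 12, 13, 15, 16]]]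

/-- The dependent members of the basic set. -/
def depT : List (List ℕ) := [[0, 1, 2, 3, 4, 5, 6, 7, 8, 10], [1, 2, 3, 4, 5, 6, 9], [0, 3, 4, 6, 7, 9, 10], [1, 2, 4, 7, 9, 10], [1, 3, 6, 8, 9, 10], [0, 1, 3, 5, 7, 9], [0, 1, 4, 5, 8, 9, 10], [0, 2, 5, 6, 9, 10], [4, 5, 6, 7, 8, 9], [0, 2, 3, 4, 8, 9], [0, 1, 2, 6, 7, 8, 9], [2, 3, 5, 7, 8, 9, 10]]

/-- The elements of the quotient. -/
def LW : List (List ℕ) := [[], [11], [12], [11, 12], [13], [11, 13], [12, 13], [11, 12, 13], [14], [11, 14], [12, 14], [11, 12, 14], [13, 14], [11, 13, 14], [12, 13, 14], [11, 12, 13, 14], [15], [11, 15], [12, 15], [11, 12, 15], [13, 15], [11, 13, 15], [12, 13, 15], [11, 12, 13, 15], [14, 15], [11, 14, 15], [12, 14, 15], [11, 12, 14, 15], [13, 14, 15], [11, 13, 14, 15], [12, 13, 14, 15], [11, 12, 13, 14, 15], [16], [11, 16], [12, 16], [11, 12, 16], [13, 16],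 [11, 13, 16], [12, 13, 16], [11, 12, 13, 16], [14, 16], [11, 14, 16], [12, 14, 16], [11, 12, 14, 16], [13, 14, 16], [11, 13, 14, 16], [12, 13, 14, 16], [11, 12, 13, 14, 16], [15, 16], [11, 15, 16], [12, 15, 16], [11, 12, 15, 16], [13, 15, 16], [11, 13, 15, 16], [12, 13, 15, 16], [11, 12, 13, 15, 16], [14, 15, 16], [11, 14, 15, 16], [12, 14, 15, 16], [11, 12, 14, 15, 16], [13, 14, 15, 16], [11, 13, 14, 15, 16], [12, 13, 14, 15, 16], [11, 12, 13, 14, 15, 16], [17], [11, 17], [12, 17], [11, 12, 17], [13, 17], [11, 13, 17], [12, 13, 17], [11, 12, 13, 17], [14, 17], [11, 14, 17], [12, 14, 17], [11, 12, 14, 17], [13, 14, 17], [11, 13, 14, 17], [12, 13, 14, 17], [11, 12, 13, 14, 17], [15, 17], [11, 15, 17], [12, 15, 17], [11, 12, 15, 17], [13, 15, 17], [11, 13, 15, 17], [12, 13, 15, 17], [11, 12, 13, 15, 17], [14, 15, 17], [11, 14, 15, 17], [12, 14,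 15, 17], [11, 12, 14, 15, 17], [13, 14, 15, 17], [11, 13, 14, 15, 17], [12, 13, 14, 15, 17], [11, 12, 13, 14, 15, 17], [16, 17], [11, 16, 17], [12, 16, 17], [11, 12, 16, 17], [13, 16, 17], [11, 13, 16, 17], [12, 13, 16, 17], [11, 12, 13, 16, 17], [14, 16, 17], [11, 14, 16, 17], [12, 14, 16, 17], [11, 12, 14, 16, 17], [13, 14, 16, 17], [11, 13, 14, 16, 17], [12, 13, 14, 16, 17], [11, 12, 13, 14, 16, 17], [15, 16, 17], [11, 15, 16, 17], [12, 15, 16, 17], [11, 12, 15, 16, 17], [13, 15, 16, 17], [11, 13, 15, 16, 17], [12, 13, 15, 16, 17], [11, 12, 13, 15, 16, 17], [14, 15, 16, 17], [11, 14, 15, 16, 17], [12, 14, 15, 16, 17], [11, 12, 14, 15, 16, 17], [13, 14, 15, 16, 17], [11, 13, 14, 15, 16, 17], [12, 13, 14, 15, 16, 17], [11, 12, 13, 14, 15, 16, 17]]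

/-- The index of the central element. -/
def nz : ℕ := 10

/-- The witnesses for the elements which do not preserve the pairs. -/
def wit : List (ℕ × ℕ) := [(0, 0), (0, 0), (0, 0), (0, 0), (0, 0), (0, 0), (3, 0), (0, 0), (0, 0), (0, 0), (0, 0), (0, 0), (3, 0), (0, 0), (0, 0), (0, 0), (7, 0), (0, 0), (0, 0), (0, 0), (0, 0), (0, 0), (3, 0), (0, 0), (0, 0), (0, 0), (7, 0), (0, 0), (3, 0), (0, 0), (0, 0), (0, 0), (0, 0), (0, 0), (3, 0), (0, 0), (3, 0), (0, 0), (0, 0), (0, 0), (0, 0), (3, 0), (0, 0), (0, 0), (0, 0), (0, 0), (0, 0), (3, 0), (0, 0), (0, 0), (0, 0), (3, 0), (0, 0), (3, 0), (0, 0), (0, 0), (3, 0), (0, 0), (0, 0), (0, 0), (0, 0), (0, 0), (3, 0), (0, 0), (0, 0), (0, 0), (0, 0), (0, 0), (0, 0), (0, 0), (0, 0), (0, 0), (0, 0), (0, 0), (0, 0), (0, 0), (0, 0), (0, 0), (0, 0), (0, 0), (0, 0), (0, 0), (0, 0), (0, 0), (0, 0), (0, 0), (0, 0),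 (0, 0), (0, 0), (0, 0), (0, 0), (0, 0), (0, 0), (0, 0), (0, 0), (0, 0), (0, 0), (0, 0), (0, 0), (0, 0), (0, 0), (0, 0), (0, 0), (0, 0), (0, 0), (0, 0), (0, 0), (0, 0), (0, 0), (0, 0), (0, 0), (0, 0), (0, 0), (0, 0), (0, 0), (0, 0), (0, 0), (0, 0), (0, 0), (0, 0), (0, 0), (0, 0), (0, 0), (0, 0), (0, 0), (0, 0), (0, 0), (0, 0)]

/-- Two members of the basic set moved by the central element. -/
def j1 : ℕ := 0

/-- Two members of the basic set moved by the central element. -/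
def j2 : ℕ := 3

/-- Labels. -/
def lab1 : ℕ := 0

/-- Labels. -/
def lab2 : ℕ := 0

/-- Labels. -/
def lab12 : ℕ := 0

/-- Labels. -/
def lab10 : ℕ := 1

/-- The base label of the orbit of length 1024. -/
def p0 : ℕ := 0

end Cfsg.Agent.Lib.Fischer.M23.Rows.Syl2
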