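/-
The Sylow 2-subgroups of the explicit `Fi23`: every elementary abelian normal subgroup has order at most `2^11`, and there is exactly one of order `2^11`.
-/
import Mathlib
import Cfsg.Prelude.Def_Transfer
import Cfsg.Agent.Lib.PGroup.Basic
import Cfsg.Agent.Lib.Fischer.M22.Rows.Transport
import Cfsg.Agent.Lib.Fischer.M23.Rows.Words
import Cfsg.Agent.Lib.Fischer.M23.Rows.Step
import Cfsg.Agent.Lib.Fischer.M23.Rows.Syl2Data

set_option autoImplicit false
set_option maxRecDepth 100000

namespace Cfsg.Agent.Lib.Fischer.M23.Rows.Syl2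

open Cfsg.Agent.Lib.Compute.ToddCoxeterCore
open Cfsg.Agent.Lib.Fischer.M23.Explicit Cfsg.Agent.Lib.Fischer.M23.Rows
open Cfsg.Agent.Lib.Fischer.M22.Rows (card_map_equiv map_map_symm map_symm_map)
open scoped Pointwise

section general

variable {G : Type*} [Group G]

/-- An element normalizing a subgroup with its square in the subgroup. -/
theorem mem_sup_zpowers {H : Subgroup G} {x y : G} (hn : x ∈ Subgroup.normalizer ((H : Subgroup G) : Set G)) (hs : x * x ∈ H)
    (hy : y ∈ H ⊔ Subgroup.zpowers x) : y ∈ H ∨ y * x⁻¹ ∈ H := by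
  have hZ : Subgroup.zpowers x ≤ Subgroup.normalizer ((H : Subgroup G) : Set G) := by
    rwa [Subgroup.zpowers_le]
  have hs' : (↑(H ⊔ Subgroup.zpowers x) : Set G) = (H : Set G) * ((Subgroup.zpowers x : Subgroup G) : Set G) :=
    Subgroup.coe_mul_of_right_le_normalizer_left _ _ hZ
  have hy' : y ∈ (↑(H ⊔ Subgroup.zpowers x) : Set G) := hy
  rw [hs'] at hy'
  obtain ⟨h, hh, z, hz, rfl⟩ := Set.mem_mul.1 hy'
  obtain ⟨k, hk⟩ := hz
  have hk' : x ^ k = z := hk
  subst hk'
  have h2 : x ^ (2 : ℤ) = x * x := zpow_two x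
  rcases Int.even_or_odd' k with ⟨m, rfl | rfl⟩
  · left
    rw [zpow_mul, h2]
    exact mul_mem hh (zpow_mem hs m)
  · right
    rw [zpow_add, zpow_mul, h2, zpow_one, mul_assoc, mul_assoc, mul_inv_cancel, mul_one]
    exact mul_mem hh (zpow_mem hs m)

variable [Finite G]

/-- The bound of the chain. -/
theorem card_sup_zpowers_le {H : Subgroup G} {x : G} (hn : x ∈ Subgroup.normalizer ((H : Subgroup G) : Set G)) (hs : x * x ∈ H) :
    Nat.card (H ⊔ Subgroup.zpowers x : Subgroup G) ≤ 2 * Nat.card H := by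
  classical
  let f : H × Bool → ↥(H ⊔ Subgroup.zpowers x) := fun p =>
    ⟨(p.1 : G) * (if p.2 then x else 1), mul_mem (Subgroup.mem_sup_left p.1.2) (by
      split_ifs
      · exact Subgroup.mem_sup_right (Subgroup.mem_zpowers x)
      · exact one_mem _)⟩
  have hf : Function.Surjective f := by
    rintro ⟨y, hy⟩
    rcases mem_sup_zpowers hn hs hy with h | h
    · refine ⟨(⟨y, h⟩, false), ?_⟩
      apply Subtype.ext
      simp [f]
    · refine ⟨(⟨y * x⁻¹, h⟩, true), ?_⟩
      apply Subtype.ext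
      simp [f]
  have h1 := Nat.card_le_card_of_surjective f hf
  rw [Nat.card_prod] at h1
  have h2 : Nat.card Bool = 2 := by simp
  rw [h2] at h1
  omega

/-- An element conjugating a subgroup of a finite group into itself normalizes it. -/
theorem mem_normalizer_of_conj_mem {E : Subgroup G} {c : G} (hc : ∀ a ∈ E, c * a * c⁻¹ ∈ E) :
    c ∈ Subgroup.normalizer ((E : Subgroup G) : Set G) := by
  rw [Subgroup.mem_normalizer_iff]
  intro a
  refine ⟨hc a, fun h => ?_⟩
  have h1 : c ^ (orderOf c) = 1 := pow_orderOf_eq_one c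
  have h2 : ∀ n : ℕ, ∀ b ∈ E, c ^ n * b * (c ^ n)⁻¹ ∈ E := by
    intro n
    induction n with
    | zero => intro b hb; simpa using hb
    | succ n ih =>
      intro b hb
      have := hc _ (ih b hb)
      have e : c ^ (n + 1) * b * (c ^ (n + 1))⁻¹ = c * (c ^ n * b * (c ^ n)⁻¹) * c⁻¹ := by
        rw [pow_succ']; group
      rw [e]
      exact this
  have h3 := h2 (orderOf c - 1) _ h
  have e : c ^ (orderOf c - 1) * (c * a * c⁻¹) * (c ^ (orderOf c - 1))⁻¹ = a := by
    have h4 : c ^ (orderOf c - 1) * c = 1 := by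
      rw [← pow_succ, Nat.sub_add_cancel (orderOf_pos c), h1]
    have h5 : c⁻¹ = c ^ (orderOf c - 1) := (eq_inv_of_mul_eq_one_left h4).symm
    calc c ^ (orderOf c - 1) * (c * a * c⁻¹) * (c ^ (orderOf c - 1))⁻¹
        = (c ^ (orderOf c - 1) * c) * a * (c⁻¹ * (c ^ (orderOf c - 1))⁻¹) := by group
      _ = a := by rw [h4, ← h5]; simp
  rw [e] at h3
  exact h3

theorem two_mul_card_le {K L : Subgroup G} (h : K ≤ L) {y : G} (hy : y ∈ L) (hy' : y ∉ K) : 2 * Nat.card K ≤ Nat.card L := by
  obtain ⟨k, hk⟩ := Subgroup.card_dvd_of_le h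
  have hpos : 0 < Nat.card K := Nat.card_pos
  have hpos' : 0 < Nat.card L := Nat.card_pos
  have h0 : k ≠ 0 := by
    rintro rfl
    omega
  have h1 : k ≠ 1 := by
    rintro rfl
    have : K = L := Subgroup.eq_of_le_of_card_ge h (by omega)
    exact hy' (this ▸ hy)
  have h2 : 2 ≤ k := by omega
  rw [hk, mul_comm]
  exact Nat.mul_le_mul_left _ h2

/-- A subgroup avoiding a four-group modulo itself has index at least 4. -/
theorem four_mul_card_le {V H : Subgroup G} (hV : V ≤ H) (hc : ∀ a ∈ H, ∀ b ∈ H, a * b = b * a)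
    {e1 e2 : G} (h1 : e1 ∈ H) (h2 : e2 ∈ H) (h11 : e1 * e1 = 1) (n1 : e1 ∉ V) (n2 : e2 ∉ V) (n12 : e1 * e2 ∉ V) :
    4 * Nat.card V ≤ Nat.card H := by
  have hN : e1 ∈ Subgroup.normalizer ((V : Subgroup G) : Set G) := by
    rw [Subgroup.mem_normalizer_iff]
    intro v
    constructor
    · intro hv
      have : e1 * v * e1⁻¹ = v := by
        rw [hc e1 h1 v (hV hv)]
        group
      rwa [this]
    · intro hv
      have hv' : v ∈ H := by
        have h5 : e1 * v * e1⁻¹ ∈ H := hV hv
        have h6 : v = e1⁻¹ * (e1 * v * e1⁻¹) * e1 := by group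
        rw [h6]
        exact mul_mem (mul_mem (inv_mem h1) h5) h1
      have : e1 * v * e1⁻¹ = v := by
        rw [hc e1 h1 v hv']
        group
      rwa [this] at hv
  have hW : V ⊔ Subgroup.zpowers e1 ≤ H := by
    rw [sup_le_iff, Subgroup.zpowers_le]
    exact ⟨hV, h1⟩
  have h3 := two_mul_card_le (le_sup_left : V ≤ V ⊔ Subgroup.zpowers e1) (Subgroup.mem_sup_right (Subgroup.mem_zpowers e1)) n1
  have hn2 : e2 ∉ V ⊔ Subgroup.zpowers e1 := by
    intro h
    rcases mem_sup_zpowers hN (by rw [h11]; exact one_mem _) h with h4 | h4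
    · exact n2 h4
    · apply n12
      have he : e1⁻¹ = e1 := inv_eq_of_mul_eq_one_left h11
      rw [he, hc e2 h2 e1 h1] at h4
      exact h4
  have h4 := two_mul_card_le hW h2 hn2
  omega

/-- The structure of the statement. -/
def Good (T : Subgroup G) : Prop :=
  (∀ A : Subgroup G, A ≤ T → (A.subgroupOf T).Normal → Cfsg.IsElementaryAbelian 2 A → Nat.card A ≤ 2 ^ 11) ∧
  ∃! A : Subgroup G, A ≤ T ∧ (A.subgroupOf T).Normal ∧ Cfsg.IsElementaryAbelian 2 A ∧ Nat.card A = 2 ^ 11

omit [Finite G] in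
theorem isMulCommutative_of {E : Subgroup G} (h : ∀ a ∈ E, ∀ b ∈ E, a * b = b * a) : IsMulCommutative E :=
  ⟨⟨fun a b => Subtype.ext (h a a.2 b b.2)⟩⟩

omit [Finite G] in
theorem comm_of_isMulCommutative {E : Subgroup G} (h : IsMulCommutative E) : ∀ a ∈ E, ∀ b ∈ E, a * b = b * a := by
  intro a ha b hb
  have := h.is_comm.comm ⟨a, ha⟩ ⟨b, hb⟩
  exact congrArg Subtype.val this

omit [Finite G] in
theorem ea_map (e : G ≃* G) {A : Subgroup G} (h : Cfsg.IsElementaryAbelian 2 A) :
    Cfsg.IsElementaryAbelian 2 (A.map e.toMonoidHom) := by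
  refine ⟨isMulCommutative_of ?_, ?_⟩
  · rintro _ ⟨a, ha, rfl⟩ _ ⟨b, hb, rfl⟩
    show e a * e b = e b * e a
    rw [← map_mul, ← map_mul, comm_of_isMulCommutative h.1 a ha b hb]
  · rintro _ ⟨a, ha, rfl⟩
    show e a ^ 2 = 1
    rw [← map_pow, h.2 a ha, map_one]

omit [Finite G] in
theorem normal_map (e : G ≃* G) {A T : Subgroup G} (hA : A ≤ T) (h : (A.subgroupOf T).Normal) :
    ((A.map e.toMonoidHom).subgroupOf (T.map e.toMonoidHom)).Normal := by
  rw [Subgroup.normal_subgroupOf_iff (Subgroup.map_mono hA)]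
  have h1 := (Subgroup.normal_subgroupOf_iff hA).1 h
  rintro _ _ ⟨a, ha, rfl⟩ ⟨t, ht, rfl⟩
  refine ⟨t * a * t⁻¹, h1 a t ha ht, ?_⟩
  show e (t * a * t⁻¹) = e t * e a * (e t)⁻¹
  simp

omit [Finite G] in
theorem Good.map (e : G ≃* G) {T : Subgroup G} (h : Good T) : Good (T.map e.toMonoidHom) := by
  obtain ⟨h1, A0, ⟨h2, h3, h4, h5⟩, h6⟩ := h
  have key : ∀ A : Subgroup G, A ≤ T.map e.toMonoidHom → (A.subgroupOf (T.map e.toMonoidHom)).Normal →
      A.map e.symm.toMonoidHom ≤ T ∧ ((A.map e.symm.toMonoidHom).subgroupOf T).Normal := by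
    intro A hA hN
    have h7 : A.map e.symm.toMonoidHom ≤ T := by
      have := Subgroup.map_mono (f := e.symm.toMonoidHom) hA
      rwa [map_symm_map] at this
    refine ⟨h7, ?_⟩
    have := normal_map e.symm hA hN
    rwa [map_symm_map] at this
  refine ⟨fun A hA hN hE => ?_, A0.map e.toMonoidHom, ⟨Subgroup.map_mono h2, normal_map e h2 h3, ea_map e h4, ?_⟩, ?_⟩
  · obtain ⟨h7, h8⟩ := key A hA hN
    have := h1 _ h7 h8 (ea_map e.symm hE)
    rwa [card_map_equiv] at this
  · rw [card_map_equiv]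
    exact h5
  · rintro A ⟨hA, hN, hE, hc⟩
    obtain ⟨h7, h8⟩ := key A hA hN
    have := h6 _ ⟨h7, h8, ea_map e.symm hE, by rw [card_map_equiv]; exact hc⟩
    rw [← this, map_map_symm]

end general

/-! ### The power-conjugate presentation -/

/-- The words of the polycyclic generators. -/
def xWd (k : ℕ) : List ℕ := xWL.getD k []

/-- The polycyclic generators. -/
noncomputable def x (k : ℕ) : G1 := wE (xWd k)

/-- The word of a word in the polycyclic generators. -/
def expand (W : List ℕ) : List ℕ := W.flatMap xWd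

theorem wE_expand (W : List ℕ) : wE (expand W) = wordEl x W := by
  induction W with
  | nil => rfl
  | cons a u ih =>
    have h : expand (a :: u) = xWd a ++ expand u := by
      simp [expand]
    rw [h, wE_append, ih, wordEl_cons]
    rfl

/-- The subgroups of the series. -/
noncomputable def T (k : ℕ) : Subgroup G1 := Subgroup.closure (x '' Set.Iio k)

theorem x_mem {i k : ℕ} (h : i < k) : x i ∈ T k := Subgroup.subset_closure ⟨i, h, rfl⟩

theorem T_mono {k l : ℕ} (h : k ≤ l) : T k ≤ T l :=
  Subgroup.closure_mono (Set.image_mono (Set.Iio_subset_Iio h))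

theorem word_mem {W : List ℕ} {k : ℕ} (h : ∀ a ∈ W, a < k) : wordEl x W ∈ T k := by
  induction W with
  | nil => exact one_mem _
  | cons a u ih =>
    rw [wordEl_cons]
    exact mul_mem (ih fun b hb => h b (by simp [hb])) (x_mem (h a (by simp)))

theorem T_succ (k : ℕ) : T (k + 1) = T k ⊔ Subgroup.zpowers (x k) := by
  apply le_antisymm
  · rw [T, Subgroup.closure_le]
    rintro _ ⟨i, hi, rfl⟩
    have hi' : i < k + 1 := hi
    rcases Nat.lt_succ_iff_lt_or_eq.1 hi' with h | rfl
    · exact Subgroup.mem_sup_left (x_mem h)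
    · exact Subgroup.mem_sup_right (Subgroup.mem_zpowers _)
  · rw [sup_le_iff, Subgroup.zpowers_le]
    exact ⟨T_mono (Nat.le_succ k), x_mem (Nat.lt_succ_self k)⟩

/-- The tokens are below a bound. -/
def tOK (k : ℕ) (W : List ℕ) : Bool := W.all (fun a => Nat.blt a k)

theorem tOK_spec {k : ℕ} {W : List ℕ} (h : tOK k W = true) : ∀ a ∈ W, a < k := by
  intro a ha
  exact blt_iff.1 (List.all_eq_true.1 h a ha)

theorem pc_sq : (List.range 18).all (fun k => tOK k (sqT.getD k []) && wEq (xWd k ++ xWd k) (expand (sqT.getD k []))) = true := by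
  decide +kernel

theorem pc_cj : (List.range 18).all (fun k => (List.range k).all (fun i =>
    tOK k ((cjT.getD k []).getD i []) && wEq (wConj (xWd k) (xWd i)) (expand ((cjT.getD k []).getD i [])))) = true := by
  decide +kernel

theorem x_sq {k : ℕ} (hk : k < 18) : x k * x k ∈ T k := by
  have h := List.all_eq_true.1 pc_sq k (List.mem_range.2 hk)
  rw [Bool.and_eq_true] at h
  have h1 := wE_eq h.2
  rw [wE_append, wE_expand] at h1
  have h2 : x k * x k = wE (xWd k) * wE (xWd k) := rfl
  rw [h2, h1]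
  exact word_mem (tOK_spec h.1)

theorem x_conj {k i : ℕ} (hk : k < 18) (hi : i < k) : x k * x i * (x k)⁻¹ ∈ T k := by
  have h := List.all_eq_true.1 (List.all_eq_true.1 pc_cj k (List.mem_range.2 hk)) i (List.mem_range.2 hi)
  rw [Bool.and_eq_true] at h
  have h1 := wE_eq h.2
  rw [wE_conj, wE_expand] at h1
  have h2 : x k * x i * (x k)⁻¹ = wE (xWd k) * wE (xWd i) * (wE (xWd k))⁻¹ := rfl
  rw [h2, h1]
  exact word_mem (tOK_spec h.1)

theorem x_norm {k : ℕ} (hk : k < 18) : x k ∈ Subgroup.normalizer ((T k : Subgroup G1) : Set G1) := by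
  apply mem_normalizer_of_conj_mem
  have hle : T k ≤ (T k).comap (MulAut.conj (x k)).toMonoidHom := by
    rw [T, Subgroup.closure_le]
    rintro _ ⟨i, hi, rfl⟩
    exact x_conj hk hi
  intro a ha
  exact hle ha

theorem card_T : ∀ k, k ≤ 18 → Nat.card (T k) ≤ 2 ^ k := by
  intro k
  induction k with
  | zero =>
    intro _
    have : T 0 = ⊥ := by
      rw [T]
      simp
    rw [this]
    simp
  | succ k ih =>
    intro hk
    have h1 := ih (by omega)
    rw [T_succ]
    have h2 := card_sup_zpowers_le (x_norm (by omega : k < 18)) (x_sq (by omega : k < 18))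
    rw [pow_succ]
    omega

/-! ### The basic set -/

/-- The labels of the basic set. -/
def om (i : ℕ) : ℕ := OmL.getD i 0

theorem om_lt : ∀ i : Fin 23, om i < 31671 := by decide +kernel

/-- The labels of the basic set. -/
def ω (i : Fin 23) : Fin NN := ⟨om i, om_lt i⟩

theorem om_inj' : ∀ i j : Fin 23, om i = om j → i = j := by decide +kernel

theorem ω_inj : Function.Injective ω := by
  intro i j h
  exact om_inj' i j (congrArg Fin.val h)

/-- The members of the basic set. -/
noncomputable def tt (i : ℕ) : G1 := tn (om i)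

theorem tt_val (i : Fin 23) : tt i = t (ω i) := tn_val (ω i)

theorem tt_sq (i : ℕ) : tt i * tt i = 1 := tn_sq _

theorem wE_single (A : ℕ) : wE [A] = aG A := by
  show wordEl aG [A] = aG A
  simp only [wordEl_cons, wordEl_nil, one_mul]

theorem wE_two (A B : ℕ) : aG A * aG B = wE [B, A] := by
  show aG A * aG B = wordEl aG [B, A]
  simp only [wordEl_cons, wordEl_nil, one_mul]

theorem aG_om (i : ℕ) : aG (om i + 16) = tt i := by
  unfold aG
  rw [if_neg (by omega)]
  simp [tt]

theorem wE_om (i : ℕ) : wE [om i + 16] = tt i := by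
  rw [wE_single, aG_om]

theorem wE_om2 (i j : ℕ) : wE [om j + 16, om i + 16] = tt i * tt j := by
  rw [← wE_two, aG_om, aG_om]

theorem xWd_basis : ∀ k : Fin 11, xWd k = [om k + 16] := by decide +kernel

theorem x_eq {k : ℕ} (hk : k < 11) : x k = tt k := by
  have h := xWd_basis ⟨k, hk⟩
  have h' : xWd k = [om k + 16] := h
  rw [x, h', wE_om]

theorem comm_chk : ∀ i j : Fin 23, tv (om i) (om j) = om j := by decide +kernel

theorem tt_comm (i j : Fin 23) : tt i * tt j = tt j * tt i := by
  rw [tt_val, tt_val]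
  have h : φ (t (ω i)) (ω j) = ω j := by
    apply Fin.ext
    rw [tv_spec]
    exact comm_chk i j
  exact (comm_t_iff' _ _).2 h

/-- The base group. -/
noncomputable def E0 : Subgroup G1 := T 11

/-- The Sylow subgroup. -/
noncomputable def T0 : Subgroup G1 := T 18

theorem E0_le : E0 ≤ T0 := T_mono (by norm_num)

theorem E0_comm : ∀ a ∈ E0, ∀ b ∈ E0, a * b = b * a := by
  have hS : ∀ s ∈ x '' Set.Iio 11, ∀ s' ∈ x '' Set.Iio 11, s * s' = s' * s := by
    rintro _ ⟨i, hi, rfl⟩ _ ⟨j, hj, rfl⟩
    have hi' : i < 11 := hi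
    have hj' : j < 11 := hj
    rw [x_eq hi', x_eq hj']
    exact tt_comm ⟨i, by omega⟩ ⟨j, by omega⟩
  have hle : E0 ≤ Subgroup.centralizer ((E0 : Subgroup G1) : Set G1) := by
    rw [E0, T, Subgroup.centralizer_closure, Subgroup.closure_le]
    intro s hs
    rw [SetLike.mem_coe, Subgroup.mem_centralizer_iff]
    intro s' hs'
    exact hS s' hs' s hs
  intro a ha b hb
  exact (Subgroup.mem_centralizer_iff.1 (hle hb) a ha)

theorem E0_sq : ∀ a ∈ E0, a * a = 1 := by
  intro a ha
  have ha' := ha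
  rw [E0, T] at ha'
  induction ha' using Subgroup.closure_induction with
  | mem s hs =>
    obtain ⟨i, hi, rfl⟩ := hs
    have hi' : i < 11 := hi
    rw [x_eq hi']
    exact tt_sq i
  | one => simp
  | mul a b h1 h2 h3 h4 =>
    have h5 : a ∈ E0 := h1
    have h6 : b ∈ E0 := h2
    have h7 := E0_comm a h5 b h6
    calc a * b * (a * b) = a * (b * a) * b := by group
      _ = a * (a * b) * b := by rw [h7]
      _ = (a * a) * (b * b) := by group
      _ = 1 := by rw [h3 h5, h4 h6, one_mul]
  | inv a h1 h2 =>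
    have h5 : a ∈ E0 := h1
    have h3 := h2 h5
    rw [← mul_inv_rev, h3, inv_one]

theorem dep_chk : (List.range 12).all (fun i => tOK 11 (depT.getD i []) && wEq [om (i + 11) + 16] (expand (depT.getD i []))) = true := by
  decide +kernel

theorem tt_mem {i : ℕ} (hi : i < 23) : tt i ∈ E0 := by
  by_cases h : i < 11
  · rw [← x_eq h]
    exact x_mem h
  · have h0 : i - 11 < 12 := by omega
    have h1 := List.all_eq_true.1 dep_chk (i - 11) (List.mem_range.2 h0)
    rw [Bool.and_eq_true] at h1
    have h2 := wE_eq h1.2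
    rw [wE_om, wE_expand, show i - 11 + 11 = i by omega] at h2
    rw [h2]
    exact word_mem (tOK_spec h1.1)

/-! ### The action on the basic set -/

/-- The stabilizer of the basic set. -/
noncomputable def stab : Subgroup G1 where
  carrier := {g | ∀ i : Fin 23, ∃ j : Fin 23, φ g (ω i) = ω j}
  one_mem' := fun i => ⟨i, by simp⟩
  mul_mem' := by
    intro a b ha hb i
    obtain ⟨j, hj⟩ := hb i
    obtain ⟨l, hl⟩ := ha j
    exact ⟨l, by rw [map_mul, Equiv.Perm.coe_mul, Function.comp_apply, hj, hl]⟩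
  inv_mem' := by
    intro a ha i
    choose f hf using ha
    have hinj : Function.Injective f := by
      intro u v huv
      apply ω_inj
      apply (φ a).injective
      rw [hf, hf, huv]
    obtain ⟨j, hj⟩ := (Finite.injective_iff_surjective.1 hinj) i
    refine ⟨j, ?_⟩
    rw [map_inv, Equiv.Perm.inv_eq_iff_eq, hf, hj]

/-- The induced map on indices. -/
noncomputable def rhoF (g : stab) (i : Fin 23) : Fin 23 := (g.2 i).choose

theorem rhoF_spec (g : stab) (i : Fin 23) : φ g (ω i) = ω (rhoF g i) := (g.2 i).choose_spec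

theorem rhoF_bij (g : stab) : Function.Bijective (rhoF g) := by
  apply Finite.injective_iff_bijective.1
  intro u v h
  apply ω_inj
  apply (φ (g : G1)).injective
  rw [rhoF_spec, rhoF_spec, h]

/-- The action on the basic set. -/
noncomputable def rho : stab →* Equiv.Perm (Fin 23) :=
  MonoidHom.mk' (fun g => Equiv.ofBijective (rhoF g) (rhoF_bij g)) (by
    intro a b
    ext i
    apply congrArg Fin.val
    apply ω_inj
    show ω (rhoF (a * b) i) = ω (rhoF a (rhoF b i))
    rw [← rhoF_spec, ← rhoF_spec, ← rhoF_spec]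
    show φ ((a : G1) * (b : G1)) (ω i) = φ (a : G1) (φ (b : G1) (ω i))
    rw [map_mul]
    rfl)

theorem rho_spec (g : stab) (i : Fin 23) : ω (rho g i) = φ g (ω i) := (rhoF_spec g i).symm

/-- The action of the generators on indices. -/
def sV (k i : ℕ) : ℕ := (sAll.getD k []).getD i 0

theorem wOK_x : ∀ k : Fin 18, wOK (xWd k) = true := by decide +kernel

theorem sV_chk : (List.range 18).all (fun k => (List.range 23).all (fun i =>
    Nat.blt (sV k i) 23 && Nat.beq (run aV (xWd k) (om i)) (om (sV k i)))) = true := by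
  decide +kernel

theorem sV_lt {k i : ℕ} (hk : k < 18) (hi : i < 23) : sV k i < 23 := by
  have h := List.all_eq_true.1 (List.all_eq_true.1 sV_chk k (List.mem_range.2 hk)) i (List.mem_range.2 hi)
  rw [Bool.and_eq_true] at h
  exact blt_iff.1 h.1

theorem x_om {k : ℕ} (hk : k < 18) (i : Fin 23) : ((φ (x k) (ω i) : Fin NN) : ℕ) = om (sV k i) := by
  have h := List.all_eq_true.1 (List.all_eq_true.1 sV_chk k (List.mem_range.2 hk)) i (List.mem_range.2 i.2)
  rw [Bool.and_eq_true] at h
  rw [x, wE_val (wOK_x ⟨k, hk⟩)]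
  exact beq_iff.1 h.2

theorem word_om {W : List ℕ} (hW : ∀ a ∈ W, a < 18) (i : Fin 23) :
    run sV W i < 23 ∧ ((φ (wordEl x W) (ω i) : Fin NN) : ℕ) = om (run sV W i) := by
  induction W generalizing i with
  | nil => simp [ω]
  | cons a u ih =>
    have ha := hW a (by simp)
    have h1 := sV_lt ha i.2
    have h2 := ih (fun b hb => hW b (by simp [hb])) ⟨sV a i, h1⟩
    rw [run_cons, wordEl_cons, map_mul, Equiv.Perm.coe_mul, Function.comp_apply]
    have h3 : φ (x a) (ω i) = ω ⟨sV a i, h1⟩ := Fin.ext (x_om ha i)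
    rw [h3]
    exact h2

theorem T0_le_stab : T0 ≤ stab := by
  rw [T0, T, Subgroup.closure_le]
  rintro _ ⟨k, hk, rfl⟩ i
  have hk' : k < 18 := hk
  exact ⟨⟨sV k i, sV_lt hk' i.2⟩, Fin.ext (x_om hk' i)⟩

/-- The action of the Sylow subgroup on the basic set. -/
noncomputable def rhoT : T0 →* Equiv.Perm (Fin 23) := rho.comp (Subgroup.inclusion T0_le_stab)

theorem rhoT_spec (g : T0) (i : Fin 23) : ω (rhoT g i) = φ (g : G1) (ω i) := rho_spec _ i

theorem conj_tt (g : T0) (j : Fin 23) : (g : G1) * tt j * (g : G1)⁻¹ = tt (rhoT g j) := by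
  rw [tt_val, tt_val, t_conj, rhoT_spec]

theorem E0_le_ker : E0.subgroupOf T0 ≤ rhoT.ker := by
  intro g hg
  have hg' : (g : G1) ∈ E0 := hg
  rw [MonoidHom.mem_ker]
  ext i
  apply congrArg Fin.val
  apply ω_inj
  rw [rhoT_spec]
  show φ (g : G1) (ω i) = ω i
  rw [← comm_t_iff', ← tt_val]
  have := E0_comm _ hg' _ (tt_mem i.2)
  exact this

/-! ### The elements of the quotient -/

/-- The values of the elements of the quotient. -/
noncomputable def lv (n i : ℕ) : ℕ := run sV (LW.getD n []) i

theorem LW_ok : (List.range 128).all (fun n => tOK 18 (LW.getD n [])) = true := by decide +kernel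

theorem LW_spec {n : ℕ} (hn : n < 128) : ∀ a ∈ LW.getD n [], a < 18 :=
  tOK_spec (List.all_eq_true.1 LW_ok n (List.mem_range.2 hn))

/-- The representatives. -/
noncomputable def rT (n : Fin 128) : T0 := ⟨wordEl x (LW.getD n []), word_mem (LW_spec n.2)⟩

theorem lv_lt {n : ℕ} (hn : n < 128) (i : Fin 23) : lv n i < 23 := (word_om (LW_spec hn) i).1

theorem rhoT_rT (n : Fin 128) (i : Fin 23) : ((rhoT (rT n) i : Fin 23) : ℕ) = lv n i := by
  have h1 := rhoT_spec (rT n) i
  have h2 := (word_om (LW_spec n.2) i).2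
  have h3 : ((φ ((rT n : T0) : G1) (ω i) : Fin NN) : ℕ) = om (lv n i) := h2
  rw [← h1] at h3
  exact congrArg Fin.val (om_inj' (rhoT (rT n) i) ⟨lv n i, lv_lt n.2 i⟩ h3)

theorem LW_nodup : ((List.range 128).map (fun n => (List.range 23).map (lv n))).Nodup := by decide +kernel

theorem rT_inj : Function.Injective (fun n : Fin 128 => rhoT (rT n)) := by
  intro n m h
  have h1 : ∀ i : Fin 23, lv n i = lv m i := by
    intro i
    have h2 : rhoT (rT n) i = rhoT (rT m) i := by
      have h3 : rhoT (rT n) = rhoT (rT m) := h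
      rw [h3]
    rw [← rhoT_rT, ← rhoT_rT, h2]
  have h4 : (List.range 23).map (lv n) = (List.range 23).map (lv m) := by
    apply List.map_congr_left
    intro i hi
    exact h1 ⟨i, List.mem_range.1 hi⟩
  exact Fin.ext (List.inj_on_of_nodup_map LW_nodup (List.mem_range.2 n.2) (List.mem_range.2 m.2) h4)

/-! ### The order of the base group -/

/-- The tokens of a subset of the first ten members of the basic set. -/
def bW (n : ℕ) : List ℕ := (List.range 10).filter (fun i => n.testBit i)

/-- The image of the base label. -/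
noncomputable def img (n : ℕ) : ℕ := run aV (expand (bW n)) p0

theorem img_nodup : ((List.range 1024).map img).Nodup := by decide +kernel

theorem bW_ok : (List.range 1024).all (fun n => wOK (expand (bW n))) = true := by decide +kernel

theorem bW_lt (n : ℕ) : ∀ a ∈ bW n, a < 11 := by
  intro a ha
  have := (List.mem_filter.1 ha).1
  have := List.mem_range.1 this
  omega

theorem p0_lt : p0 < 31671 := by decide +kernel

/-- The base label. -/
def p0F : Fin NN := ⟨p0, p0_lt⟩

theorem el_val {n : ℕ} (hn : n < 1024) : ((φ (wordEl x (bW n)) p0F : Fin NN) : ℕ) = img n := by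
  rw [← wE_expand, wE_val (List.all_eq_true.1 bW_ok n (List.mem_range.2 hn))]
  rfl

theorem x10_fix : run aV (xWd 10) p0 = p0 := by decide +kernel

theorem x10_val : φ (x 10) p0F = p0F := by
  apply Fin.ext
  rw [x, wE_val (wOK_x ⟨10, by norm_num⟩)]
  exact x10_fix

theorem x10_ne : x 10 ≠ 1 := by
  rw [x]
  exact wE_ne_one (i := lab10) (by decide +kernel)

theorem card_E0_ge : 2048 ≤ Nat.card E0 := by
  classical
  let f : Fin 1024 × Bool → E0 := fun p => ⟨wordEl x (bW p.1) * (if p.2 then x 10 else 1), mul_mem (word_mem (bW_lt _)) (by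
    split_ifs
    · exact x_mem (by norm_num)
    · exact one_mem _)⟩
  have hf : Function.Injective f := by
    rintro ⟨n, b⟩ ⟨m, c⟩ h
    have h1 : wordEl x (bW n) * (if b then x 10 else 1) = wordEl x (bW m) * (if c then x 10 else 1) := congrArg Subtype.val h
    have hval : ∀ (k : Fin 1024) (d : Bool), φ (wordEl x (bW k) * (if d then x 10 else 1)) p0F = φ (wordEl x (bW k)) p0F := by
      intro k d
      rw [map_mul, Equiv.Perm.coe_mul, Function.comp_apply]
      cases d
      · simp
      · simp [x10_val]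
    have h2 := congrArg (fun g => φ g p0F) h1
    simp only [hval] at h2
    have h3 : img n = img m := by
      rw [← el_val n.2, ← el_val m.2, h2]
    have h4 : n = m := Fin.ext (List.inj_on_of_nodup_map img_nodup (List.mem_range.2 n.2) (List.mem_range.2 m.2) h3)
    subst h4
    have h5 := mul_left_cancel h1
    have h6 : b = c := by
      cases b <;> cases c
      · rfl
      · simp at h5
        exact absurd h5.symm x10_ne
      · simp at h5
        exact absurd h5 x10_ne
      · rfl
    rw [h6]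
  have h1 := Nat.card_le_card_of_injective f hf
  simpa using h1

/-! ### The counts -/

theorem card_ker_mul_range {G H : Type*} [Group G] [Group H] [Finite G] (f : G →* H) :
    Nat.card f.ker * Nat.card f.range = Nat.card G := by
  have := Subgroup.card_mul_index f.ker
  rwa [Subgroup.index_ker] at this

theorem card_range_ge : 128 ≤ Nat.card rhoT.range := by
  have h1 := Nat.card_le_card_of_injective (fun n : Fin 128 => (⟨rhoT (rT n), ⟨_, rfl⟩⟩ : rhoT.range)) (by
    intro n m h
    exact rT_inj (congrArg Subtype.val h))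
  simpa using h1

theorem card_subgroupOf_E0 : Nat.card (E0.subgroupOf T0) = Nat.card E0 :=
  Nat.card_congr (Subgroup.subgroupOfEquivOfLe E0_le).toEquiv

theorem cards : Nat.card E0 = 2048 ∧ Nat.card T0 = 2 ^ 18 ∧ Nat.card rhoT.range = 128 ∧ rhoT.ker = E0.subgroupOf T0 := by
  have h1 := card_ker_mul_range rhoT
  have h2 : Nat.card T0 ≤ 2 ^ 18 := card_T 18 le_rfl
  have h3 := card_range_ge
  have h4 := card_E0_ge
  have h5 : Nat.card E0 ≤ Nat.card rhoT.ker := by
    rw [← card_subgroupOf_E0]
    exact Nat.le_of_dvd Nat.card_pos (Subgroup.card_dvd_of_le E0_le_ker)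
  set K := Nat.card rhoT.ker with hK
  set R := Nat.card rhoT.range with hR
  have h6 : 2048 ≤ K := by omega
  have h7 : K * R ≤ 262144 := by
    rw [h1]
    exact h2
  have h8 : R ≤ 128 := by
    by_contra hc
    have : 2048 * 129 ≤ K * R := Nat.mul_le_mul h6 (by omega)
    omega
  have h9 : R = 128 := le_antisymm h8 h3
  have h10 : K ≤ 2048 := by
    rw [h9] at h7
    omega
  have h11 : K = 2048 := le_antisymm h10 h6
  have h12 : Nat.card E0 = 2048 := le_antisymm (by omega) h4
  refine ⟨h12, ?_, h9, ?_⟩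
  · rw [← h1, h11, h9]
    norm_num
  · symm
    apply Subgroup.eq_of_le_of_card_ge E0_le_ker
    rw [card_subgroupOf_E0, h12]
    omega

theorem mem_E0_of_ker (g : T0) (h : rhoT g = 1) : (g : G1) ∈ E0 := by
  have h1 : g ∈ rhoT.ker := h
  rw [cards.2.2.2] at h1
  exact h1

theorem exists_rT (c : Equiv.Perm (Fin 23)) (hc : c ∈ rhoT.range) : ∃ n : Fin 128, rhoT (rT n) = c := by
  have hinj : Function.Injective (fun n : Fin 128 => (⟨rhoT (rT n), ⟨_, rfl⟩⟩ : rhoT.range)) := by
    intro n m h
    exact rT_inj (congrArg Subtype.val h)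
  have hb := hinj.bijective_of_nat_card_le (by rw [cards.2.2.1]; simp)
  obtain ⟨n, hn⟩ := hb.2 ⟨c, hc⟩
  exact ⟨n, congrArg Subtype.val hn⟩

theorem rT_zero : rhoT (rT ⟨0, by norm_num⟩) = 1 := by
  have h : rT ⟨0, by norm_num⟩ = 1 := by
    apply Subtype.ext
    show wordEl x (LW.getD 0 []) = 1
    have h2 : LW.getD 0 [] = [] := by decide +kernel
    rw [h2]
    rfl
  rw [h, map_one]

/-! ### The checks on the quotient -/

/-- The central involution. -/
noncomputable def zv (i : ℕ) : ℕ := lv nz i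

theorem nz_lt : nz < 128 := by decide +kernel

theorem center_chk : (List.range 128).all (fun n => Nat.beq n 0 || Nat.beq n nz ||
    (List.range 18).any (fun k => (List.range 23).any (fun i => !(Nat.beq (lv n (sV k i)) (sV k (lv n i)))))) = true := by
  decide +kernel

theorem wit_chk : (List.range 128).all (fun n => Nat.beq n 0 || Nat.beq n nz ||
    (Nat.blt (wit.getD n (0, 0)).1 23 && wNe [om (wit.getD n (0, 0)).1 + 16, om (zv (wit.getD n (0, 0)).1) + 16]
      [om (lv n (wit.getD n (0, 0)).1) + 16, om (lv n (zv (wit.getD n (0, 0)).1)) + 16] (wit.getD n (0, 0)).2)) = true := by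
  decide +kernel

theorem j1_lt : j1 < 23 := by decide +kernel
theorem j2_lt : j2 < 23 := by decide +kernel

theorem n1_chk : wNe [om j1 + 16] [om (zv j1) + 16] lab1 = true := by decide +kernel
theorem n2_chk : wNe [om j2 + 16] [om (zv j2) + 16] lab2 = true := by decide +kernel
theorem n12_chk : wNe [om j2 + 16, om j1 + 16] [om (zv j2) + 16, om (zv j1) + 16] lab12 = true := by decide +kernel

theorem rhoT_x {k : ℕ} (hk : k < 18) (i : Fin 23) : ((rhoT ⟨x k, x_mem hk⟩ i : Fin 23) : ℕ) = sV k i := by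
  have h1 := rhoT_spec ⟨x k, x_mem hk⟩ i
  have h3 : ((φ (x k) (ω i) : Fin NN) : ℕ) = om (sV k i) := x_om hk i
  have h4 : φ (x k) (ω i) = ω (rhoT ⟨x k, x_mem hk⟩ i) := h1.symm
  rw [h4] at h3
  exact congrArg Fin.val (om_inj' _ ⟨sV k i, sV_lt hk i.2⟩ h3)

end Cfsg.Agent.Lib.Fischer.M23.Rows.Syl2
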