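/-
The main claim on the Sylow 2-subgroups of the explicit `Fi23`: every elementary abelian normal
subgroup has order at most `2^11`, and there is exactly one of order `2^11`.
-/
import Mathlib
import Cfsg.Prelude.Def_Transfer
import Cfsg.Agent.Lib.PGroup.Basic
import Cfsg.Agent.Lib.Fischer.M23.Rows.Syl2

set_option autoImplicit false

namespace Cfsg.Agent.Lib.Fischer.M23.Rows.Syl2

open Cfsg.Agent.Lib.Compute.ToddCoxeterCore
open Cfsg.Agent.Lib.Fischer.M23.Explicit Cfsg.Agent.Lib.Fischer.M23.Rows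
open scoped Pointwise

theorem main0 {A : Subgroup G1} (hA : A ≤ T0) (hN : (A.subgroupOf T0).Normal) (hE : Cfsg.IsElementaryAbelian 2 A) :
    A ≤ E0 ∨ Nat.card A ≤ 1024 := by
  by_cases hAE : A ≤ E0
  · exact Or.inl hAE
  right
  obtain ⟨a0, ha0, ha0'⟩ := SetLike.not_le_iff_exists.1 hAE
  have hcomm := comm_of_isMulCommutative hE.1
  have hN' := (Subgroup.normal_subgroupOf_iff hA).1 hN
  have hQ2 : IsPGroup 2 rhoT.range := IsPGroup.of_card (n := 7) (by rw [cards.2.2.1]; norm_num)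
  have hfs : Function.Surjective rhoT.rangeRestrict := MonoidHom.rangeRestrict_surjective _
  set B : Subgroup rhoT.range := (A.subgroupOf T0).map rhoT.rangeRestrict with hB
  haveI hBN : B.Normal := hN.map _ hfs
  have hBne : B ≠ ⊥ := by
    intro h
    apply ha0'
    have hm : (⟨a0, hA ha0⟩ : T0) ∈ A.subgroupOf T0 := ha0
    have h1 : rhoT.rangeRestrict ⟨a0, hA ha0⟩ ∈ B := ⟨_, hm, rfl⟩
    rw [h, Subgroup.mem_bot] at h1
    have h2 : rhoT ⟨a0, hA ha0⟩ = 1 := congrArg Subtype.val h1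
    exact mem_E0_of_ker _ h2
  haveI : Fact (Nat.Prime 2) := ⟨Nat.prime_two⟩
  have hinf := Cfsg.Agent.Lib.PGroup.Basic.inf_center_ne_bot hQ2 hBne
  obtain ⟨c, ⟨hc1, hc2⟩, hc3⟩ := (Subgroup.bot_or_exists_ne_one (B ⊓ Subgroup.center rhoT.range)).resolve_left hinf
  obtain ⟨⟨a, haT⟩, ha, hac⟩ := hc1
  have haA : a ∈ A := ha
  obtain ⟨n, hn⟩ := exists_rT c.1 c.2
  have hac' : rhoT ⟨a, haT⟩ = c.1 := congrArg Subtype.val hac
  have hc4 : c.1 ≠ 1 := fun h => hc3 (Subtype.ext h)
  -- the element is the central involution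
  have hnz : (n : ℕ) = nz := by
    have hch := List.all_eq_true.1 center_chk n (List.mem_range.2 n.2)
    simp only [Bool.or_eq_true, List.any_eq_true, List.mem_range] at hch
    rcases hch with (h | h) | ⟨k, hk, i, hi, h⟩
    · exfalso
      have h0 : (n : ℕ) = 0 := beq_iff.1 h
      have h1 : n = ⟨0, by norm_num⟩ := Fin.ext h0
      apply hc4
      rw [← hn, h1]
      exact rT_zero
    · exact beq_iff.1 h
    · exfalso
      have hcomm' := (Subgroup.mem_center_iff.1 hc2) (rhoT.rangeRestrict ⟨x k, x_mem hk⟩)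
      have h1 : rhoT ⟨x k, x_mem hk⟩ * rhoT (rT n) = rhoT (rT n) * rhoT ⟨x k, x_mem hk⟩ := by
        rw [hn]
        exact congrArg Subtype.val hcomm'
      have h2 := congrArg (fun f : Equiv.Perm (Fin 23) => (f ⟨i, hi⟩ : ℕ)) h1
      simp only [Equiv.Perm.coe_mul, Function.comp_apply] at h2
      have e1 := rhoT_x hk (rhoT (rT n) ⟨i, hi⟩)
      have e2 := rhoT_rT n ⟨i, hi⟩
      have e3 := rhoT_rT n (rhoT ⟨x k, x_mem hk⟩ ⟨i, hi⟩)
      have e4 := rhoT_x hk ⟨i, hi⟩
      rw [e2] at e1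
      rw [e4] at e3
      have h5 : sV k (lv n i) = lv n (sV k i) := by
        rw [← e1, ← e3]
        exact h2
      rw [← h5] at h
      simp at h
  let nzF : Fin 128 := ⟨nz, nz_lt⟩
  have hnF : n = nzF := Fin.ext hnz
  have haz : rhoT ⟨a, haT⟩ = rhoT (rT nzF) := by rw [hac', ← hn, hnF]
  have hval : ∀ j : Fin 23, ((rhoT ⟨a, haT⟩ j : Fin 23) : ℕ) = zv j := by
    intro j
    rw [haz]
    exact rhoT_rT nzF j
  have hconj : ∀ j : Fin 23, a * tt j * a⁻¹ = tt (zv j) := by
    intro j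
    have h3 := conj_tt ⟨a, haT⟩ j
    rw [hval] at h3
    exact h3
  have hzlt : ∀ j : Fin 23, zv j < 23 := fun j => lv_lt nz_lt j
  -- products in A
  have hw : ∀ j : Fin 23, tt (zv j) * tt j ∈ A := by
    intro j
    have h1 : tt j * a * (tt j)⁻¹ ∈ A := hN' a (tt j) haA (E0_le (tt_mem j.2))
    have h2 : tt j * a * (tt j)⁻¹ * a⁻¹ ∈ A := mul_mem h1 (inv_mem haA)
    have h3 : tt j * a * (tt j)⁻¹ * a⁻¹ = tt j * tt (zv j) := by
      have h4 : a * (tt j)⁻¹ * a⁻¹ = (a * tt j * a⁻¹)⁻¹ := by group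
      have h5 : (tt (zv j))⁻¹ = tt (zv j) := inv_eq_of_mul_eq_one_left (tt_sq _)
      calc tt j * a * (tt j)⁻¹ * a⁻¹ = tt j * (a * (tt j)⁻¹ * a⁻¹) := by group
        _ = tt j * tt (zv j) := by rw [h4, hconj, h5]
    rw [h3] at h2
    have h6 := tt_comm j ⟨zv j, hzlt j⟩
    have h7 : tt j * tt (zv j) = tt (zv j) * tt j := h6
    rwa [h7] at h2
  -- the image of the subgroup
  have hrange : ∀ b (hb : b ∈ A), rhoT ⟨b, hA hb⟩ = 1 ∨ rhoT ⟨b, hA hb⟩ = rhoT (rT nzF) := by
    intro b hb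
    obtain ⟨m, hm⟩ := exists_rT (rhoT ⟨b, hA hb⟩) ⟨_, rfl⟩
    have hch := List.all_eq_true.1 wit_chk m (List.mem_range.2 m.2)
    simp only [Bool.or_eq_true, Bool.and_eq_true] at hch
    rcases hch with (h | h) | ⟨h1, h2⟩
    · left
      have h0 : (m : ℕ) = 0 := beq_iff.1 h
      have h3 : m = ⟨0, by norm_num⟩ := Fin.ext h0
      rw [← hm, h3]
      exact rT_zero
    · right
      have h0 : (m : ℕ) = nz := beq_iff.1 h
      have h3 : m = nzF := Fin.ext h0
      rw [← hm, h3]
    · exfalso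
      set j0 := (wit.getD (m : ℕ) (0, 0)).1 with hj0
      have hj : j0 < 23 := blt_iff.1 h1
      have hne := wE_ne h2
      apply hne
      rw [wE_om2, wE_om2]
      have h3 := hcomm b hb _ (hw ⟨j0, hj⟩)
      have h4 : b * (tt (zv j0) * tt j0) * b⁻¹ = tt (zv j0) * tt j0 := by
        rw [h3]
        group
      rw [← h4]
      have h5 : ∀ l : Fin 23, b * tt l * b⁻¹ = tt (lv m l) := by
        intro l
        have h6 := conj_tt ⟨b, hA hb⟩ l
        rw [← hm, rhoT_rT] at h6
        exact h6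
      have h6 := h5 ⟨j0, hj⟩
      have h7 := h5 ⟨zv j0, hzlt ⟨j0, hj⟩⟩
      have h8 : b * (tt (zv j0) * tt j0) * b⁻¹ = (b * tt (zv j0) * b⁻¹) * (b * tt j0 * b⁻¹) := by group
      rw [h8]
      exact congrArg₂ (· * ·) h7 h6
  -- the intersection with the base group
  have hV4 : 4 * Nat.card (A ⊓ E0 : Subgroup G1) ≤ Nat.card E0 := by
    refine four_mul_card_le inf_le_right E0_comm (tt_mem j1_lt) (tt_mem j2_lt) (tt_sq j1) ?_ ?_ ?_
    · intro h
      have h1 := hconj ⟨j1, j1_lt⟩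
      have h2 := hcomm a haA _ h.1
      have h3 : a * tt j1 * a⁻¹ = tt j1 := by
        rw [h2]
        group
      have h4 : tt (zv j1) = tt j1 := by rw [← h3]; exact h1.symm
      have h5 := wE_ne n1_chk
      rw [wE_om, wE_om] at h5
      exact h5 h4.symm
    · intro h
      have h1 := hconj ⟨j2, j2_lt⟩
      have h2 := hcomm a haA _ h.1
      have h3 : a * tt j2 * a⁻¹ = tt j2 := by
        rw [h2]
        group
      have h4 : tt (zv j2) = tt j2 := by rw [← h3]; exact h1.symm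
      have h5 := wE_ne n2_chk
      rw [wE_om, wE_om] at h5
      exact h5 h4.symm
    · intro h
      have h1 := hconj ⟨j1, j1_lt⟩
      have h1' := hconj ⟨j2, j2_lt⟩
      have h2 := hcomm a haA _ h.1
      have h3 : a * (tt j1 * tt j2) * a⁻¹ = tt j1 * tt j2 := by
        rw [h2]
        group
      have h4 : a * (tt j1 * tt j2) * a⁻¹ = (a * tt j1 * a⁻¹) * (a * tt j2 * a⁻¹) := by group
      have h5 := wE_ne n12_chk
      rw [wE_om2, wE_om2] at h5
      apply h5
      rw [← h3, h4]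
      exact congrArg₂ (· * ·) h1 h1'
  have hV : Nat.card (A ⊓ E0 : Subgroup G1) ≤ 512 := by
    rw [cards.1] at hV4
    omega
  -- the count
  let ρA : A →* Equiv.Perm (Fin 23) := rhoT.comp (Subgroup.inclusion hA)
  have hρA : ∀ b : A, ρA b = rhoT ⟨b, hA b.2⟩ := fun b => rfl
  have hcount := card_ker_mul_range ρA
  have hker : Nat.card ρA.ker ≤ Nat.card (A ⊓ E0 : Subgroup G1) := by
    refine Nat.card_le_card_of_injective (fun g : ρA.ker => (⟨(g.1 : G1), g.1.2, ?_⟩ : (A ⊓ E0 : Subgroup G1))) ?_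
    · exact mem_E0_of_ker ⟨(g.1 : G1), hA g.1.2⟩ g.2
    · intro g g' h
      apply Subtype.ext
      apply Subtype.ext
      exact congrArg (fun u : (A ⊓ E0 : Subgroup G1) => (u : G1)) h
  have hran : Nat.card ρA.range ≤ 2 := by
    classical
    have h1 := Nat.card_le_card_of_injective (fun p : ρA.range => (if p.1 = 1 then (0 : Fin 2) else 1)) (by
      rintro ⟨p, b, rfl⟩ ⟨q, b', rfl⟩ h
      apply Subtype.ext
      simp only at h
      show ρA b = ρA b'
      by_cases hb1 : ρA b = 1 <;> by_cases hb1' : ρA b' = 1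
      · rw [hb1, hb1']
      · rw [if_pos hb1, if_neg hb1'] at h
        simp at h
      · rw [if_neg hb1, if_pos hb1'] at h
        simp at h
      · have h2 := (hrange b b.2).resolve_left hb1
        have h3 := (hrange b' b'.2).resolve_left hb1'
        rw [hρA, hρA, h2, h3])
    simpa using h1
  rw [← hcount]
  calc Nat.card ρA.ker * Nat.card ρA.range ≤ 512 * 2 := Nat.mul_le_mul (hker.trans hV) hran
    _ = 1024 := by norm_num

theorem good0 : Good T0 := by
  refine ⟨fun A hA hN hE => ?_, E0, ⟨E0_le, ?_, ?_, ?_⟩, ?_⟩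
  · rcases main0 hA hN hE with h | h
    · have h1 := Subgroup.card_le_of_le h
      rw [cards.1] at h1
      omega
    · omega
  · rw [← cards.2.2.2]
    exact MonoidHom.normal_ker _
  · refine ⟨isMulCommutative_of E0_comm, fun a ha => ?_⟩
    rw [sq]
    exact E0_sq a ha
  · rw [cards.1]
    norm_num
  · rintro A ⟨hA, hN, hE, hc⟩
    rcases main0 hA hN hE with h | h
    · apply Subgroup.eq_of_le_of_card_ge h
      rw [hc, cards.1]
      norm_num
    · rw [hc] at h
      norm_num at h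

theorem fact2 : (Nat.card G1).factorization 2 = 18 := by
  rw [card1]
  have h1 : (4089470473293004800 : ℕ) = 2 ^ 18 * 15600091832325 := by norm_num
  rw [h1, Nat.factorization_mul (by norm_num) (by norm_num), Nat.Prime.factorization_pow (by norm_num)]
  have h2 : (15600091832325 : ℕ).factorization 2 = 0 :=
    Nat.factorization_eq_zero_of_not_dvd (by norm_num)
  simp [h2]

theorem good_sylow (T : Sylow 2 G1) : Good (T : Subgroup G1) := by
  let P : Sylow 2 G1 := Sylow.ofCard T0 (by rw [fact2, cards.2.1])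
  have hP : (P : Subgroup G1) = T0 := Sylow.coe_ofCard _ _
  obtain ⟨g, hg⟩ := MulAction.exists_smul_eq G1 P T
  have h1 : (T : Subgroup G1) = T0.map (MulAut.conj g).toMonoidHom := by
    rw [← hg, Sylow.coe_subgroup_smul, hP]
    rfl
  rw [h1]
  exact good0.map (MulAut.conj g)

end Cfsg.Agent.Lib.Fischer.M23.Rows.Syl2
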